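/-
helper89: project S2318 (helper82), auxiliary table fact for S2318-[C-W0SIMPLE]: the longest element of the Weyl group
(given by the concrete longest words of helper18) maps the negative of every fundamental root to a fundamental root.
-/
import Cfsg.Agent.Lib.Helper18.LongestAll

set_option autoImplicit false

namespace Cfsg.Agent.Lib.Helper89.StChev

open Cfsg Cfsg.Lie Cfsg.Agent.Lib.Helper18

theorem isLongestWord_G2 : IsLongestWord chevG2 longestG2 := by
  refine w0OKT_spec chevG2 fastG2 agree_G2 _ _ rfl ?_
    (hrefl_of_nxRel _ _ fun i hi s hs => nxRel_G2 i hi s hs) w0OKT_G2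
  intro i hi
  change i < 2 at hi
  interval_cases i
  · exact simple_G2_0.symm
  · exact simple_G2_1.symm

set_option maxRecDepth 1000000 in
theorem longestSimple_G2 : ∀ i < chevG2.rank, ∃ j < chevG2.rank,
    wordRoot chevG2 longestG2 (chevG2.neg (chevG2.simple i)) = chevG2.simple j := by decide +kernel

theorem isLongestWord_B2 : IsLongestWord chevB2 longestB2 := by
  refine w0OKT_spec chevB2 fastB2 agree_B2 _ _ rfl ?_
    (hrefl_of_nxRel _ _ fun i hi s hs => nxRel_B2 i hi s hs) w0OKT_B2
  intro i hi
  change i < 2 at hi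
  interval_cases i
  · exact simple_B2_0.symm
  · exact simple_B2_1.symm

set_option maxRecDepth 1000000 in
theorem longestSimple_B2 : ∀ i < chevB2.rank, ∃ j < chevB2.rank,
    wordRoot chevB2 longestB2 (chevB2.neg (chevB2.simple i)) = chevB2.simple j := by decide +kernel

theorem isLongestWord_D4 : IsLongestWord chevD4 longestD4 := by
  refine w0OKT_spec chevD4 fastD4 agree_D4 _ _ rfl ?_
    (hrefl_of_nxRel _ _ fun i hi s hs => nxRel_D4 i hi s hs) w0OKT_D4
  intro i hi
  change i < 4 at hi
  interval_cases i
  · exact simple_D4_0.symm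
  · exact simple_D4_1.symm
  · exact simple_D4_2.symm
  · exact simple_D4_3.symm

set_option maxRecDepth 1000000 in
theorem longestSimple_D4 : ∀ i < chevD4.rank, ∃ j < chevD4.rank,
    wordRoot chevD4 longestD4 (chevD4.neg (chevD4.simple i)) = chevD4.simple j := by decide +kernel

theorem isLongestWord_F4 : IsLongestWord chevF4 longestF4 := by
  refine w0OKT_spec chevF4 fastF4 agree_F4 _ _ rfl ?_
    (hrefl_of_nxRel _ _ fun i hi s hs => nxRel_F4 i hi s hs) w0OKT_F4
  intro i hi
  change i < 4 at hi
  interval_cases i
  · exact simple_F4_0.symm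
  · exact simple_F4_1.symm
  · exact simple_F4_2.symm
  · exact simple_F4_3.symm

set_option maxRecDepth 1000000 in
theorem longestSimple_F4 : ∀ i < chevF4.rank, ∃ j < chevF4.rank,
    wordRoot chevF4 longestF4 (chevF4.neg (chevF4.simple i)) = chevF4.simple j := by decide +kernel

theorem isLongestWord_E6 : IsLongestWord chevE6 longestE6 := by
  refine w0OKT_spec chevE6 fastE6 agree_E6 _ _ rfl ?_
    (hrefl_of_nxRel _ _ fun i hi s hs => nxRel_E6 i hi s hs) w0OKT_E6
  intro i hi
  change i < 6 at hi
  interval_cases i
  · exact simple_E6_0.symm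
  · exact simple_E6_1.symm
  · exact simple_E6_2.symm
  · exact simple_E6_3.symm
  · exact simple_E6_4.symm
  · exact simple_E6_5.symm

set_option maxRecDepth 1000000 in
theorem longestSimple_E6 : ∀ i < chevE6.rank, ∃ j < chevE6.rank,
    wordRoot chevE6 longestE6 (chevE6.neg (chevE6.simple i)) = chevE6.simple j := by decide +kernel

theorem isLongestWord_E7 : IsLongestWord chevE7 longestE7 := by
  refine w0OKT_spec chevE7 fastE7 agree_E7 _ _ rfl ?_
    (hrefl_of_nxRel _ _ fun i hi s hs => nxRel_E7 i hi s hs) w0OKT_E7
  intro i hi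
  change i < 7 at hi
  interval_cases i
  · exact simple_E7_0.symm
  · exact simple_E7_1.symm
  · exact simple_E7_2.symm
  · exact simple_E7_3.symm
  · exact simple_E7_4.symm
  · exact simple_E7_5.symm
  · exact simple_E7_6.symm

set_option maxRecDepth 1000000 in
theorem longestSimple_E7 : ∀ i < chevE7.rank, ∃ j < chevE7.rank,
    wordRoot chevE7 longestE7 (chevE7.neg (chevE7.simple i)) = chevE7.simple j := by decide +kernel

theorem isLongestWord_E8 : IsLongestWord chevE8 longestE8 := by
  refine w0OKT_spec chevE8 fastE8 agree_E8 _ _ rfl ?_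
    (hrefl_of_nxRel _ _ fun i hi s hs => nxRel_E8 i hi s hs) w0OKT_E8
  intro i hi
  change i < 8 at hi
  interval_cases i
  · exact simple_E8_0.symm
  · exact simple_E8_1.symm
  · exact simple_E8_2.symm
  · exact simple_E8_3.symm
  · exact simple_E8_4.symm
  · exact simple_E8_5.symm
  · exact simple_E8_6.symm
  · exact simple_E8_7.symm

set_option maxRecDepth 1000000 in
theorem longestSimple_E8 : ∀ i < chevE8.rank, ∃ j < chevE8.rank,
    wordRoot chevE8 longestE8 (chevE8.neg (chevE8.simple i)) = chevE8.simple j := by decide +kernel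

/-- A longest word mapping the negative of every fundamental root to a fundamental root. -/
theorem exists_longestWord_simple (D : ChevalleyDatum)
    (hD : D ∈ [chevG2, chevB2, chevD4, chevF4, chevE6, chevE7, chevE8]) :
    ∃ ws : List ℕ, IsLongestWord D ws ∧
      ∀ i < D.rank, ∃ j < D.rank, wordRoot D ws (D.neg (D.simple i)) = D.simple j := by
  simp only [List.mem_cons, List.not_mem_nil, or_false] at hD
  rcases hD with rfl | rfl | rfl | rfl | rfl | rfl | rfl
  · exact ⟨longestG2, isLongestWord_G2, longestSimple_G2⟩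
  · exact ⟨longestB2, isLongestWord_B2, longestSimple_B2⟩
  · exact ⟨longestD4, isLongestWord_D4, longestSimple_D4⟩
  · exact ⟨longestF4, isLongestWord_F4, longestSimple_F4⟩
  · exact ⟨longestE6, isLongestWord_E6, longestSimple_E6⟩
  · exact ⟨longestE7, isLongestWord_E7, longestSimple_E7⟩
  · exact ⟨longestE8, isLongestWord_E8, longestSimple_E8⟩

end Cfsg.Agent.Lib.Helper89.StChev
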