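/-
helper89: project S2318 (helper82), module S2318-[C-W0SIMPLE]: for a representative `n₀` of the longest element,
`n₀⁻¹ X_{-p_i} n₀` is a fundamental root group `X_{p_j}`.  Also: any two representatives of the longest element differ
by an element of `H`.
-/
import Cfsg.Agent.Lib.Helper82.StUniq.ChevDefs
import Cfsg.Agent.Lib.Helper89.StChev.LongestSimple
import Cfsg.Agent.Lib.Helper18.Order2
import Cfsg.Agent.S1037
import Cfsg.Agent.S1024

set_option autoImplicit false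

namespace Cfsg.Agent.Lib.Helper89.StChev

open Cfsg Cfsg.Lie Cfsg.Agent.Lib.Helper18 Cfsg.Agent.Lib.Helper82.StChev

universe u
variable {F : Type u} [Field F] {D : ChevalleyDatum}

theorem wordRootF_eq_wordRoot (C : ChevData.{u} D) (ws : List ℕ) (hws : ∀ i ∈ ws, i < D.rank) (s : ℕ)
    (hs : s < D.nroots) : wordRootF C.tabs ws s = wordRoot D ws s ∧ wordRootF C.tabs ws s < D.nroots := by
  induction ws with
  | nil => exact ⟨rfl, hs⟩
  | cons i ws ih =>
    have hi : i < D.rank := hws i (List.mem_cons_self)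
    obtain ⟨h1, h2⟩ := ih (fun j hj => hws j (List.mem_cons_of_mem _ hj))
    have e : wordRoot D (i :: ws) s = D.reflectRoot i (wordRoot D ws s) := rfl
    rw [e, ← h1, wordRootF_cons, C.hrefl i hi _ h2]
    exact ⟨rfl, C.w_lt i _ hi h2⟩

theorem wordSignF_mul_self (tabs : List ℕ) (ws : List ℕ) (s : ℕ) :
    ((wordSignF tabs ws s : ℤ) : F) * ((wordSignF tabs ws s : ℤ) : F) = 1 := by
  rcases wordSignF_cases tabs ws s with h | h <;> rw [h] <;> simp

theorem xG_ne_one (hD : D ∈ [chevG2, chevB2, chevD4, chevF4, chevE6, chevE7, chevE8]) (r : ℕ)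
    (hr : r < D.nroots) (t : F) (ht : t ≠ 0) : xG hD r t ≠ 1 := by
  intro h
  apply ht
  have := congrArg Units.val h
  rw [coe_xG, Units.val_one] at this
  exact (Cfsg.Agent.S1024.result D hD r hr t).mp this

theorem posUnipotent_inf_negUnipotent (hD : D ∈ [chevG2, chevB2, chevD4, chevF4, chevE6, chevE7, chevE8]) :
    D.posUnipotent F ⊓ D.negUnipotent F = ⊥ := by
  rw [eq_bot_iff, ← (Cfsg.Agent.S1037.result (F := F) D hD).1]
  exact inf_le_inf_right _ le_sup_left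

/-- The data attached to a longest word: conjugation by `n₁ = nW ws` and by its inverse. -/
theorem longest_conj (hD : D ∈ [chevG2, chevB2, chevD4, chevF4, chevE6, chevE7, chevE8]) (C : ChevData.{u} D)
    (ws : List ℕ) (hlw : IsLongestWord D ws) (s : ℕ) (hs : s < D.nroots) :
    ∃ σ : F, σ * σ = 1 ∧ ∀ t : F,
      (nW hD C ws)⁻¹ * xG hD s t * nW hD C ws = xG hD (wordRoot D ws s) (σ * t) := by
  obtain ⟨hws, hw⟩ := hlw
  obtain ⟨h1, h2, -⟩ := hw s hs
  refine ⟨((wordSignF C.tabs ws (wordRoot D ws s) : ℤ) : F), wordSignF_mul_self _ _ _, fun t => ?_⟩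
  have key := nW_conj_xG hD C ws hws (wordRoot D ws s) h2
    (((wordSignF C.tabs ws (wordRoot D ws s) : ℤ) : F) * t)
  rw [(wordRootF_eq_wordRoot C ws hws _ h2).1, h1, ← mul_assoc, wordSignF_mul_self, one_mul] at key
  rw [← key]
  group

/-- Two representatives of the longest element differ by an element of `H`: here `n₁ = nW ws` for a longest word. -/
theorem longestRep_eq (hD : D ∈ [chevG2, chevB2, chevD4, chevF4, chevE6, chevE7, chevE8]) (C : ChevData.{u} D)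
    (ws : List ℕ) (hlw : IsLongestWord D ws) (n₀ : GL D.Idx F) (hn₀ : IsLongestRep D F n₀) :
    (nW hD C ws)⁻¹ * n₀ ∈ D.diagonalSubgroup F := by
  have hlw' := hlw
  obtain ⟨hws, hw⟩ := hlw
  obtain ⟨hn₀N, hn₀V⟩ := hn₀
  apply mem_diagonal_of_conj_pos hD C _ (mul_mem (inv_mem (nW_mem_monomial hD C ws)) hn₀N)
  intro r hr
  obtain ⟨r', hr', hconj⟩ := exists_conj_xG hD C n₀ hn₀N r hr.1
  obtain ⟨t', ht'⟩ := hconj 1
  -- the conjugate lies in `V`
  have hV : n₀ * xG hD r 1 * n₀⁻¹ ∈ D.negUnipotent F := by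
    rw [← hn₀V]
    exact ⟨xG hD r 1, xG_mem_posUnipotent hD r 1 hr, rfl⟩
  -- it is not trivial
  have hne : xG hD r' t' ≠ 1 := by
    rw [← ht']
    intro h
    apply xG_ne_one hD r hr.1 (1 : F) one_ne_zero
    have : xG hD r (1 : F) = n₀⁻¹ * (n₀ * xG hD r 1 * n₀⁻¹) * n₀ := by group
    rw [this, h]
    group
  -- so `r'` is negative
  have hr'neg : r' < D.nroots / 2 := by
    by_contra hge
    have hpos : D.IsPosRoot r' := (isPosRoot_iff hD r').mpr ⟨hr', by omega⟩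
    have hU : xG hD r' t' ∈ D.posUnipotent F := xG_mem_posUnipotent hD r' t' hpos
    have : xG hD r' t' ∈ D.posUnipotent F ⊓ D.negUnipotent F := ⟨hU, ht' ▸ hV⟩
    rw [posUnipotent_inf_negUnipotent hD, Subgroup.mem_bot] at this
    exact hne this
  obtain ⟨σ, -, hσ⟩ := longest_conj (F := F) hD C ws hlw' r' hr'
  obtain ⟨h1', h2, h3⟩ := hw r' hr'
  obtain ⟨-, -, h3'⟩ := hw (wordRoot D ws r') h2
  refine ⟨wordRoot D ws r', σ * t', (isPosRoot_iff hD _).mpr ⟨h2, h3'.mpr (by rw [h1']; exact hr'neg)⟩, ?_⟩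
  rw [← hσ t', ← ht']
  group

/-- **S2318-[C-W0SIMPLE]**. -/
theorem longest_conj_simple (hD : D ∈ [chevG2, chevB2, chevD4, chevF4, chevE6, chevE7, chevE8])
    (n₀ : GL D.Idx F) (hn₀ : IsLongestRep D F n₀) (i : ℕ) (hi : i < D.rank) (n : GL D.Idx F)
    (hn : (n : Matrix D.Idx D.Idx F) = D.nMat F (D.simple i) 1) :
    ∃ j < D.rank, ∃ c : F, c ≠ 0 ∧ ∀ t : F,
      n₀⁻¹ * (n * xG hD (D.simple i) t * n⁻¹) * n₀ = xG hD (D.simple j) (c * t) := by
  obtain ⟨C⟩ := nonempty_chevData.{u} D hD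
  obtain ⟨ws, hlw, hsimp⟩ := exists_longestWord_simple D hD
  obtain ⟨j, hj, hwj⟩ := hsimp i hi
  have hp : D.simple i < D.nroots := C.simple_lt i hi
  have hnp : D.neg (D.simple i) < D.nroots := neg_lt_nroots D hD _ hp
  -- `n x_p(t) n⁻¹ = x_{-p}(η t)`
  have hn' : n = nG hD (D.simple i) hp := Units.ext (by rw [hn, coe_nG])
  have hw : C.w i (D.simple i) = D.neg (D.simple i) := by
    have h1 := C.spec.refl_simple i (C.rank_eq ▸ hi)
    rw [← C.hsimple i hi, ← C.neg_eq _ hp] at h1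
    exact h1
  have e1 : ∀ t : F, n * xG hD (D.simple i) t * n⁻¹
      = xG hD (D.neg (D.simple i)) ((C.eta i (D.simple i) : F) * t) := by
    intro t
    rw [hn', nG_conj_xG hD C i (D.simple i) hi hp t, hw]
  -- `n₀ = n₁ m`, `m ∈ H`
  obtain ⟨m, hm⟩ : ∃ m : GL D.Idx F, m = (nW hD C ws)⁻¹ * n₀ := ⟨_, rfl⟩
  have hmH : m ∈ D.diagonalSubgroup F := hm ▸ longestRep_eq hD C ws hlw n₀ hn₀
  obtain ⟨c, hc, hmc⟩ := Cfsg.Agent.S1034.mem_diagonalSubgroup_torus D hD m hmH
  have hsj : D.simple j < D.nroots := C.simple_lt j hj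
  obtain ⟨χ, hχ⟩ : ∃ χ : F, χ = torusFun D c (Sum.inr ⟨D.simple j, hsj⟩) := ⟨_, rfl⟩
  have hχ0 : χ ≠ 0 := hχ ▸ torusFun_ne_zero D c hc _
  -- `m x_s(t) m⁻¹ = x_s(χ t)`
  have e2 : ∀ t : F, m * xG hD (D.simple j) t * m⁻¹ = xG hD (D.simple j) (χ * t) := by
    intro t
    rw [mul_inv_eq_iff_eq_mul]
    apply Units.ext
    rw [Units.val_mul, Units.val_mul, coe_xG, coe_xG, hmc, hχ]
    exact torus_mul_x D hD c hc (D.simple j) hsj t
  have e2' : ∀ t : F, m⁻¹ * xG hD (D.simple j) t * m = xG hD (D.simple j) (χ⁻¹ * t) := by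
    intro t
    have := e2 (χ⁻¹ * t)
    rw [← mul_assoc, mul_inv_cancel₀ hχ0, one_mul] at this
    rw [← this]
    group
  obtain ⟨σ, hσ1, hσ⟩ := longest_conj (F := F) hD C ws hlw (D.neg (D.simple i)) hnp
  have hσ0 : σ ≠ 0 := by
    intro h
    rw [h, mul_zero] at hσ1
    exact zero_ne_one hσ1
  refine ⟨j, hj, χ⁻¹ * (σ * (C.eta i (D.simple i) : F)), ?_, fun t => ?_⟩
  · exact mul_ne_zero (inv_ne_zero hχ0) (mul_ne_zero hσ0 (C.eta_ne_zero i _))
  · have hn₀ : n₀ = nW hD C ws * m := by rw [hm]; group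
    rw [e1 t, hn₀]
    have e3 : (nW hD C ws * m)⁻¹ * xG hD (D.neg (D.simple i)) ((C.eta i (D.simple i) : F) * t)
        * (nW hD C ws * m)
        = m⁻¹ * ((nW hD C ws)⁻¹ * xG hD (D.neg (D.simple i)) ((C.eta i (D.simple i) : F) * t)
          * nW hD C ws) * m := by group
    rw [e3, hσ, hwj, e2']
    congr 1
    ring

end Cfsg.Agent.Lib.Helper89.StChev
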