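/-
helper89: project S2318 (helper82), module S2318-[C-HGEN]: the diagonal subgroup `H` of a Chevalley group is generated
by its intersections with the rank-one subgroups `⟨X_{p_i}, n_i X_{p_i} n_i⁻¹⟩`.
-/
import Cfsg.Agent.Lib.Helper18.TorusHom
import Cfsg.Agent.Lib.Helper18.BN4
import Mathlib

set_option autoImplicit false

namespace Cfsg.Agent.Lib.Helper89.StChev

open Cfsg Cfsg.Lie Cfsg.Agent.Lib.Helper18

universe u
variable {F : Type u} [Field F] {D : ChevalleyDatum}

/-- The rank-one subgroup attached to the `i`-th fundamental root and a representative `n` of its reflection. -/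
def rankOneSub (D : ChevalleyDatum) (F : Type u) [Field F] (i : ℕ) (n : GL D.Idx F) : Subgroup (GL D.Idx F) :=
  D.rootSubgroup F (D.simple i) ⊔ (D.rootSubgroup F (D.simple i)).map (MulAut.conj n).toMonoidHom

theorem xG_simple_mem_rankOneSub (hD : D ∈ [chevG2, chevB2, chevD4, chevF4, chevE6, chevE7, chevE8])
    (i : ℕ) (n : GL D.Idx F) (t : F) : xG hD (D.simple i) t ∈ rankOneSub D F i n :=
  Subgroup.mem_sup_left ((mem_rootSubgroup_iff hD _ _).mpr ⟨t, rfl⟩)

theorem xG_neg_simple_mem_rankOneSub (hD : D ∈ [chevG2, chevB2, chevD4, chevF4, chevE6, chevE7, chevE8])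
    (C : ChevData.{u} D) (i : ℕ) (hi : i < D.rank) (n : GL D.Idx F)
    (hn : (n : Matrix D.Idx D.Idx F) = D.nMat F (D.simple i) 1) (t : F) :
    xG hD (D.neg (D.simple i)) t ∈ rankOneSub D F i n := by
  have hn' : n = nG hD (D.simple i) (C.simple_lt i hi) := Units.ext (by rw [hn, coe_nG])
  have hw : C.w i (D.simple i) = D.neg (D.simple i) := by
    have h1 := C.spec.refl_simple i (C.rank_eq ▸ hi)
    rw [← C.hsimple i hi, ← C.neg_eq _ (C.simple_lt i hi)] at h1
    exact h1
  have key := nG_conj_xG hD C i (D.simple i) hi (C.simple_lt i hi) ((C.eta i (D.simple i) : F) * t)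
  rw [hw, ← mul_assoc, C.eta_mul_self, one_mul, ← hn'] at key
  rw [← key]
  apply Subgroup.mem_sup_right
  exact ⟨xG hD (D.simple i) _, (mem_rootSubgroup_iff hD _ _).mpr ⟨_, rfl⟩, rfl⟩

/-- `h_{p_i}(c)` lies in the rank-one subgroup. -/
theorem hMat_simple_mem_rankOneSub (hD : D ∈ [chevG2, chevB2, chevD4, chevF4, chevE6, chevE7, chevE8])
    (C : ChevData.{u} D) (i : ℕ) (hi : i < D.rank) (n : GL D.Idx F)
    (hn : (n : Matrix D.Idx D.Idx F) = D.nMat F (D.simple i) 1) (c : F) (g : GL D.Idx F)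
    (hg : (g : Matrix D.Idx D.Idx F) = D.hMat F (D.simple i) c) : g ∈ rankOneSub D F i n := by
  have e : g = xG hD (D.simple i) c * xG hD (D.neg (D.simple i)) (-c⁻¹) * xG hD (D.simple i) c *
      (xG hD (D.simple i) (-1) * xG hD (D.neg (D.simple i)) (-(-1 : F)⁻¹) * xG hD (D.simple i) (-1)) := by
    apply Units.ext
    rw [hg]
    simp only [Units.val_mul, coe_xG]
    unfold ChevalleyDatum.hMat ChevalleyDatum.hWord ChevalleyDatum.nWord ChevalleyDatum.wordMat
    simp only [List.cons_append, List.nil_append, List.map_cons, List.map_nil, List.prod_cons, List.prod_nil,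
      mul_one, mul_assoc]
  rw [e]
  have h1 := xG_simple_mem_rankOneSub hD i n
  have h2 := xG_neg_simple_mem_rankOneSub hD C i hi n hn
  exact mul_mem (mul_mem (mul_mem (h1 c) (h2 _)) (h1 c)) (mul_mem (mul_mem (h1 _) (h2 _)) (h1 _))

/-- **S2318-[C-HGEN]**. -/
theorem diagonal_le_iSup (hD : D ∈ [chevG2, chevB2, chevD4, chevF4, chevE6, chevE7, chevE8])
    (ns : ℕ → GL D.Idx F)
    (hns : ∀ i < D.rank, ((ns i : GL D.Idx F) : Matrix D.Idx D.Idx F) = D.nMat F (D.simple i) 1) :
    D.diagonalSubgroup F ≤ ⨆ i ∈ Finset.range D.rank, D.diagonalSubgroup F ⊓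
      (D.rootSubgroup F (D.simple i) ⊔
        (D.rootSubgroup F (D.simple i)).map (MulAut.conj (ns i)).toMonoidHom) := by
  obtain ⟨C⟩ := nonempty_chevData.{u} D hD
  set S : Subgroup (GL D.Idx F) := ⨆ i ∈ Finset.range D.rank, D.diagonalSubgroup F ⊓
      (D.rootSubgroup F (D.simple i) ⊔
        (D.rootSubgroup F (D.simple i)).map (MulAut.conj (ns i)).toMonoidHom) with hS
  -- products of the `h_{p_i}(c_i)` lie in `S`
  have key : ∀ (c : ℕ → F) (L : List ℕ), (∀ i ∈ L, i < D.rank) → (∀ i ∈ L, c i ≠ 0) →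
      ∃ g : GL D.Idx F, g ∈ S ∧
        (g : Matrix D.Idx D.Idx F) = (L.map fun i => D.hMat F (D.simple i) (c i)).prod := by
    intro c L hL hc
    induction L with
    | nil => exact ⟨1, one_mem _, by simp⟩
    | cons a L ih =>
      obtain ⟨g, hg, hgm⟩ := ih (fun i hi => hL i (List.mem_cons_of_mem _ hi))
        (fun i hi => hc i (List.mem_cons_of_mem _ hi))
      have ha : a < D.rank := hL a List.mem_cons_self
      obtain ⟨g', hgm'⟩ := exists_unit_hMat_simple (F := F) D hD a ha (c a) (hc a List.mem_cons_self)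
      have hg'H : g' ∈ D.diagonalSubgroup F :=
        Subgroup.subset_closure ⟨D.simple a, c a, C.simple_lt a ha, hc a List.mem_cons_self, hgm'⟩
      have hg'R : g' ∈ rankOneSub D F a (ns a) :=
        hMat_simple_mem_rankOneSub hD C a ha (ns a) (hns a ha) (c a) g' hgm'
      have hg'S : g' ∈ S := by
        have hle : D.diagonalSubgroup F ⊓ (D.rootSubgroup F (D.simple a) ⊔
            (D.rootSubgroup F (D.simple a)).map (MulAut.conj (ns a)).toMonoidHom) ≤ S :=
          le_iSup₂_of_le a (Finset.mem_range.mpr ha) le_rfl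
        exact hle ⟨hg'H, hg'R⟩
      refine ⟨g' * g, mul_mem hg'S hg, ?_⟩
      rw [Units.val_mul, hgm, hgm', List.map_cons, List.prod_cons]
  intro h hh
  rw [← range_torusHom D hD] at hh
  obtain ⟨c, rfl⟩ := hh
  have hc : ∀ i < D.rank, extC D.rank c i ≠ 0 := fun i _ => extC_ne_zero _ c i
  obtain ⟨g, hg, hgm⟩ := key (extC D.rank c) (List.range D.rank)
    (fun i hi => List.mem_range.mp hi) (fun i hi => hc i (List.mem_range.mp hi))
  have h1 := wordMat_torusWord D (fun i hi c hc => Cfsg.Agent.S1033.result D hD i hi c hc)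
    (extC D.rank c) hc
  unfold torusWord at h1
  rw [wordMat_flatMap] at h1
  have : torusHom D F c = g := by
    apply Units.ext
    rw [coe_torusHom, hgm, ← h1]
    rfl
  rw [this]
  exact hg

end Cfsg.Agent.Lib.Helper89.StChev
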